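import Groth.Agent.S0499
import Groth.Agent.S5066
import Groth.Agent.DSPtsLib.Basic
import Groth.Agent.AdicLib.Basic
import Mathlib.AlgebraicGeometry.Morphisms.Finite
import Mathlib.AlgebraicGeometry.Morphisms.Etale
import Mathlib.AlgebraicGeometry.Pullbacks
import Mathlib.AlgebraicGeometry.Limits
import Mathlib.RingTheory.Henselian
import Mathlib.RingTheory.AdicCompletion.Noetherian
import Mathlib.RingTheory.TensorProduct.Quotient

/-!
# Points of schemes with values in finite schemes over a henselian or complete local ring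
-/

set_option linter.style.haveILetI false

universe u

open CategoryTheory CategoryTheory.Limits AlgebraicGeometry TensorProduct

namespace Groth.Agent.CompletePts

set_option backward.isDefEq.respectTransparency.types false

variable {A : Type u} [CommRing A] [IsLocalRing A]

/-- A local ring henselian at its maximal ideal is a henselian local ring. -/
theorem henselianLocalRing_of_complete [IsAdicComplete (IsLocalRing.maximalIdeal A) A] : HenselianLocalRing A where
  is_henselian f hf a₀ h₁ h₂ := HenselianRing.is_henselian f hf a₀ h₁ (h₂.map _)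

/-- A finite scheme over a henselian local ring is a finite sum of spectra of finite local algebras. -/
theorem exists_components [HenselianLocalRing A] (X : Over (Spec (CommRingCat.of A))) [IsFinite X.hom] :
    ∃ (ι : Type u) (_ : Fintype ι) (C : ι → Type u) (_ : ∀ i, CommRing (C i)) (_ : ∀ i, Algebra A (C i))
      (σ : (∐ fun i => Spec (CommRingCat.of (C i))) ≅ X.left),
      (∀ i, IsLocalRing (C i)) ∧ (∀ i, Module.Finite A (C i)) ∧
        ∀ i, Sigma.ι (fun i => Spec (CommRingCat.of (C i))) i ≫ σ.hom ≫ X.hom =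
          Spec.map (CommRingCat.ofHom (algebraMap A (C i))) := by
  haveI : IsAffine X.left := isAffine_of_isAffineHom X.hom
  let B := Γ(X.left, ⊤)
  let f : A →+* B := ((Scheme.ΓSpecIso (CommRingCat.of A)).inv ≫ X.hom.appTop).hom
  have hf : f.Finite := RingHom.Finite.comp
    (IsFinite.finite_app (f := X.hom) ⊤ (isAffineOpen_top _))
    (RingHom.Finite.of_surjective _ (Scheme.ΓSpecIso (CommRingCat.of A)).symm.commRingCatIsoToRingEquiv.surjective)
  letI := f.toAlgebra
  haveI : Module.Finite A B := hf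
  obtain ⟨ι, _, C, _, hloc, ⟨e⟩⟩ := Groth.Agent.S0499.result A B
  letI : ∀ i, Algebra A (C i) := fun i => (((Pi.evalRingHom C i).comp e.toRingHom).comp f).toAlgebra
  let π : ∀ i, B →ₐ[A] C i := fun i => { (Pi.evalRingHom C i).comp e.toRingHom with commutes' := fun _ => rfl }
  haveI : ∀ i, Module.Finite A (C i) := fun i => Module.Finite.of_surjective (π i).toLinearMap fun c => by
    classical
    refine ⟨e.symm (Function.update 0 i c), ?_⟩
    show Pi.evalRingHom C i (e (e.symm (Function.update 0 i c))) = c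
    rw [RingEquiv.apply_symm_apply]
    simp
  let R : ι → CommRingCat.{u} := fun i => CommRingCat.of (C i)
  let e' : CommRingCat.of B ≅ CommRingCat.of (∀ i, C i) := e.toCommRingCatIso
  let σ : (∐ fun i => Spec (R i)) ≅ X.left :=
    asIso (sigmaSpec R) ≪≫ Scheme.Spec.mapIso e'.op ≪≫ X.left.isoSpec.symm
  refine ⟨ι, inferInstance, C, inferInstance, inferInstance, σ, hloc, inferInstance, fun i => ?_⟩
  show Sigma.ι (fun i => Spec (R i)) i ≫ (sigmaSpec R ≫ Spec.map e'.hom ≫ X.left.isoSpec.inv) ≫ X.hom = _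
  have h : X.left.isoSpec.inv ≫ X.hom = Spec.map (CommRingCat.ofHom f) := by
    rw [show CommRingCat.ofHom f = (Scheme.ΓSpecIso (CommRingCat.of A)).inv ≫ X.hom.appTop from rfl, Spec.map_comp,
      ← Scheme.isoSpec_inv_naturality X.hom, Scheme.isoSpec_Spec_inv]
  rw [Category.assoc, Category.assoc, h, ι_sigmaSpec_assoc, ← Spec.map_comp, ← Spec.map_comp]
  rfl

/-- A map out of the spectrum of a local ring factors through any affine open containing the image of the closed
point. -/
theorem exists_factor {C : Type u} [CommRing C] [IsLocalRing C] {Y : Scheme.{u}} (a : Spec (CommRingCat.of C) ⟶ Y)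
    {U : Y.Opens} (hU : IsAffineOpen U) (h : a (IsLocalRing.closedPoint C) ∈ U) :
    ∃ ψ : Γ(Y, U) →+* C, Spec.map (CommRingCat.ofHom ψ) ≫ hU.fromSpec = a := by
  have hr : Set.range a ⊆ Set.range hU.fromSpec := by
    rintro _ ⟨q, rfl⟩
    rw [hU.range_fromSpec]
    have := IsLocalRing.closed_point_mem_iff (U := a ⁻¹ᵁ U).mp h
    exact (this.ge (show q ∈ ⊤ from trivial) : q ∈ a ⁻¹ᵁ U)
  exact ⟨(Spec.preimage (IsOpenImmersion.lift hU.fromSpec a hr)).hom,
    (congrArg (· ≫ hU.fromSpec) (by rw [CommRingCat.ofHom_hom, Spec.map_preimage])).trans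
      (IsOpenImmersion.lift_fac _ _ _)⟩

theorem map_maximalIdeal_ne_top (C : Type u) [CommRing C] [IsLocalRing C] [Algebra A C] [Module.Finite A C] :
    (IsLocalRing.maximalIdeal A).map (algebraMap A C) ≠ ⊤ := by
  haveI : Algebra.IsIntegral A C := inferInstance
  haveI := Ideal.isMaximal_comap_of_isIntegral_of_isMaximal (R := A) (IsLocalRing.maximalIdeal C)
  have h := IsLocalRing.eq_maximalIdeal this
  exact fun ht => (IsLocalRing.maximalIdeal.isMaximal C).ne_top (top_le_iff.mp (ht.ge.trans
    (Ideal.map_le_iff_le_comap.mpr h.ge)))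

section Lift

variable [HenselianLocalRing A]

/-- Points of an etale scheme with values in a finite scheme over a henselian local ring are those with values in
the closed fibre. -/
theorem exists_lift_etale (X U : Over (Spec (CommRingCat.of A))) [IsFinite X.hom] [Etale U.hom]
    (x₁ : (Over.pullback (Spec.map (CommRingCat.ofHom (Ideal.Quotient.mk (IsLocalRing.maximalIdeal A))))).obj X ⟶
      (Over.pullback (Spec.map (CommRingCat.ofHom (Ideal.Quotient.mk (IsLocalRing.maximalIdeal A))))).obj U) :
    ∃ φ : X ⟶ U,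
      (Over.pullback (Spec.map (CommRingCat.ofHom (Ideal.Quotient.mk (IsLocalRing.maximalIdeal A))))).map φ = x₁ := by
  let m := IsLocalRing.maximalIdeal A
  let i₀ : Spec (CommRingCat.of (A ⧸ m)) ⟶ Spec (CommRingCat.of A) :=
    Spec.map (CommRingCat.ofHom (Ideal.Quotient.mk m))
  obtain ⟨ι, _, C, _, _, σ, hloc, hfin, hσ⟩ := exists_components X
  let x : pullback X.hom i₀ ⟶ U.left := x₁.left ≫ pullback.fst U.hom i₀
  have hx : x ≫ U.hom = pullback.snd X.hom i₀ ≫ i₀ := by
    show (x₁.left ≫ pullback.fst U.hom i₀) ≫ U.hom = _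
    rw [Category.assoc, pullback.condition, ← Category.assoc]
    exact congrArg (· ≫ i₀) (Over.w x₁)
  let 𝒰 : X.left.OpenCover := (sigmaOpenCover fun i => Spec (CommRingCat.of (C i))).pushforwardIso σ.hom
  have hloc' : ∀ i : ι, ∃ φ : Spec (CommRingCat.of (C i)) ⟶ U.left,
      φ ≫ U.hom = Spec.map (CommRingCat.ofHom (algebraMap A (C i))) ∧
      pullback.fst (Spec.map (CommRingCat.ofHom (algebraMap A (C i)))) i₀ ≫ φ =
        pullback.map (Spec.map (CommRingCat.ofHom (algebraMap A (C i)))) i₀ X.hom i₀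
          (Sigma.ι (fun i => Spec (CommRingCat.of (C i))) i ≫ σ.hom) (𝟙 _) (𝟙 _)
          (by rw [Category.comp_id, Category.assoc, hσ]) (by simp) ≫ x := by
    intro i
    haveI := hloc i
    haveI := hfin i
    let mC := m.map (algebraMap A (C i))
    let aC : Spec (CommRingCat.of (C i)) ⟶ Spec (CommRingCat.of A) :=
      Spec.map (CommRingCat.ofHom (algebraMap A (C i)))
    let T := C i ⊗[A] (A ⧸ m)
    let eT : ((C i) ⧸ mC) ≃ₐ[C i] T := Algebra.TensorProduct.quotIdealMapEquivTensorQuot (C i) m
    let P : Spec (CommRingCat.of T) ⟶ pullback aC i₀ := (pullbackSpecIso A (C i) (A ⧸ m)).inv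
    let pm := pullback.map aC i₀ X.hom i₀ (Sigma.ι (fun i => Spec (CommRingCat.of (C i))) i ≫ σ.hom) (𝟙 _) (𝟙 _)
      (by rw [Category.comp_id, Category.assoc, hσ]) (by simp)
    haveI : Nontrivial ((C i) ⧸ mC) := Ideal.Quotient.nontrivial_iff.mpr (map_maximalIdeal_ne_top (C i))
    haveI : IsLocalRing ((C i) ⧸ mC) := .of_surjective' _ Ideal.Quotient.mk_surjective
    let y : Spec (CommRingCat.of ((C i) ⧸ mC)) ⟶ U.left :=
      Spec.map (CommRingCat.ofHom eT.symm.toRingEquiv.toRingHom) ≫ P ≫ pm ≫ x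
    obtain ⟨U', hU', hyU, -⟩ := exists_isAffineOpen_mem_and_subset
      (show y (IsLocalRing.closedPoint _) ∈ (⊤ : U.left.Opens) from trivial)
    obtain ⟨ψ₀, hψ₀⟩ := exists_factor y hU' hyU
    let fE : A →+* Γ(U.left, U') :=
      ((Scheme.ΓSpecIso (CommRingCat.of A)).inv ≫ U.hom.appLE ⊤ U' le_top).hom
    letI := fE.toAlgebra
    haveI : Algebra.Etale A Γ(U.left, U') := by
      have h1 : (U.hom.appLE ⊤ U' le_top).hom.Etale :=
        HasRingHomProperty.appLE @Etale U.hom ‹_› ⟨⊤, isAffineOpen_top _⟩ ⟨U', hU'⟩ le_top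
      exact RingHom.Etale.stableUnderComposition _ _ (RingHom.Etale.of_bijective
        (Scheme.ΓSpecIso (CommRingCat.of A)).symm.commRingCatIsoToRingEquiv.bijective) h1
    have hfE : Spec.map (CommRingCat.ofHom fE) = hU'.fromSpec ≫ U.hom := by
      rw [← (isAffineOpen_top _).SpecMap_appLE_fromSpec U.hom hU' le_top, IsAffineOpen.fromSpec_top (X := Spec (CommRingCat.of A)),
        Scheme.isoSpec_Spec_inv, ← Spec.map_comp]
      rfl
    have hpy : y ≫ U.hom = Spec.map (CommRingCat.ofHom ((Ideal.Quotient.mk mC).comp (algebraMap A (C i)))) := by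
      simp only [y, pm, Category.assoc, hx, pullback.lift_snd_assoc, Category.comp_id, P]
      rw [← pullback.condition (f := aC) (g := i₀)]
      erw [pullbackSpecIso_inv_fst_assoc]
      rw [← Spec.map_comp, ← Spec.map_comp]
      refine congrArg Spec.map (CommRingCat.hom_ext (RingHom.ext fun a => ?_))
      show eT.symm (algebraMap A (C i) a ⊗ₜ 1) = _
      rw [AlgEquiv.symm_apply_eq]
      rfl
    let ψ₁ : Γ(U.left, U') →ₐ[A] (C i) ⧸ mC :=
      { ψ₀ with
        commutes' := fun a => by
          have h := congrArg (fun k => k ≫ U.hom) hψ₀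
          simp only [Category.assoc, ← hfE, hpy, ← Spec.map_comp] at h
          exact RingHom.congr_fun (congrArg CommRingCat.Hom.hom (Spec.map_injective h)) a }
    obtain ⟨ψ, hψ⟩ := ((Groth.Agent.S5066.result A).mp ‹_› (C i) Γ(U.left, U')).2 ψ₁
    refine ⟨Spec.map (CommRingCat.ofHom ψ.toRingHom) ≫ hU'.fromSpec, ?_, ?_⟩
    · rw [Category.assoc, ← hfE, ← Spec.map_comp]
      exact congrArg Spec.map (CommRingCat.hom_ext (RingHom.ext ψ.commutes))
    · haveI : IsIso (CommRingCat.ofHom eT.symm.toRingEquiv.toRingHom) :=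
        inferInstanceAs (IsIso eT.symm.toRingEquiv.toCommRingCatIso.hom)
      haveI : IsIso P := inferInstanceAs (IsIso (pullbackSpecIso A (C i) (A ⧸ m)).inv)
      refine (cancel_epi P).mp ?_
      refine (cancel_epi (Spec.map (CommRingCat.ofHom eT.symm.toRingEquiv.toRingHom))).mp ?_
      show _ = y
      rw [← hψ₀]
      simp only [P]
      erw [pullbackSpecIso_inv_fst_assoc]
      simp only [← Spec.map_comp_assoc]
      congr 2
      refine CommRingCat.hom_ext (RingHom.ext fun z => ?_)
      show eT.symm (ψ z ⊗ₜ 1) = ψ₀ z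
      rw [← show ψ₁ z = ψ₀ z from rfl, ← hψ]
      rw [AlgEquiv.symm_apply_eq]
      rfl
  choose φ hφ₁ hφ₂ using hloc'
  let Φ : X.left ⟶ U.left := σ.inv ≫ Sigma.desc φ
  have hΦ : ∀ i, 𝒰.f i ≫ Φ = φ i := fun i => by
    show (Sigma.ι (fun i => Spec (CommRingCat.of (C i))) i ≫ σ.hom) ≫ σ.inv ≫ Sigma.desc φ = φ i
    rw [Category.assoc, Iso.hom_inv_id_assoc, Sigma.ι_desc]
  refine ⟨Over.homMk Φ (Scheme.Cover.hom_ext 𝒰 _ _ fun i => ?_), ?_⟩
  · exact (Category.assoc _ _ _).symm.trans ((congrArg (· ≫ U.hom) (hΦ i)).trans ((hφ₁ i).trans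
      ((Category.assoc _ _ _).trans (hσ i)).symm))
  · refine Over.OverMorphism.ext (pullback.hom_ext ?_ ?_)
    · refine Scheme.Cover.hom_ext (Scheme.Pullback.openCoverOfLeft 𝒰 X.hom i₀) _ _ fun i => ?_
      show pullback.map _ _ _ _ (𝒰.f i) (𝟙 _) (𝟙 _) (by simp) (by simp) ≫ pullback.lift _ _ _ ≫ pullback.fst U.hom i₀ =
        pullback.map _ _ _ _ (𝒰.f i) (𝟙 _) (𝟙 _) (by simp) (by simp) ≫ x
      refine (congrArg (_ ≫ ·) (pullback.lift_fst _ _ _)).trans ?_
      refine (pullback.lift_fst_assoc _ _ _ _).trans ?_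
      refine (Category.assoc _ _ _).trans ?_
      show pullback.fst (𝒰.f i ≫ X.hom) i₀ ≫ 𝒰.f i ≫ Φ = _
      rw [hΦ]
      have hf : 𝒰.f i ≫ X.hom = Spec.map (CommRingCat.ofHom (algebraMap A (C i))) :=
        (Category.assoc _ _ _).trans (hσ i)
      have h2 := congrArg ((pullback.congrHom hf rfl).hom ≫ ·) (hφ₂ i)
      simp only [pullback.congrHom_hom] at h2
      refine (Eq.trans ?_ h2).trans ?_
      · refine Eq.symm ((Category.assoc _ _ _).symm.trans (congrArg (· ≫ φ i) ?_))
        exact (pullback.lift_fst _ _ _).trans (Category.comp_id _)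
      · refine (Category.assoc _ _ x).symm.trans (congrArg (· ≫ x) ?_)
        apply pullback.hom_ext
        · refine (Category.assoc _ _ _).trans ((congrArg (_ ≫ ·) (pullback.lift_fst _ _ _)).trans ?_)
          refine (pullback.lift_fst_assoc _ _ _ _).trans ?_
          exact ((Category.assoc _ _ _).trans (congrArg (_ ≫ ·) (Category.id_comp _))).trans
            (pullback.lift_fst _ _ _).symm
        · refine (Category.assoc _ _ _).trans ((congrArg (_ ≫ ·) (pullback.lift_snd _ _ _)).trans ?_)
          refine (pullback.lift_snd_assoc _ _ _ _).trans ?_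
          exact ((Category.assoc _ _ _).trans (congrArg (_ ≫ ·) (Category.id_comp _))).trans
            (pullback.lift_snd _ _ _).symm
    · exact (pullback.lift_snd _ _ _).trans (Over.w x₁).symm

end Lift

/-- Maps out of a finite scheme over a complete noetherian local ring are determined by their restrictions to the
infinitesimal neighbourhoods of the closed fibre. -/
theorem ext_of_levels [IsNoetherianRing A] [IsAdicComplete (IsLocalRing.maximalIdeal A) A]
    {X Y : Over (Spec (CommRingCat.of A))} [IsFinite X.hom] (a b : X ⟶ Y)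
    (h : ∀ n : ℕ, pullback.fst X.hom (Spec.map (CommRingCat.ofHom
        (Ideal.Quotient.mk (IsLocalRing.maximalIdeal A ^ (n + 1))))) ≫ a.left =
      pullback.fst X.hom (Spec.map (CommRingCat.ofHom
        (Ideal.Quotient.mk (IsLocalRing.maximalIdeal A ^ (n + 1))))) ≫ b.left) : a = b := by
  haveI := henselianLocalRing_of_complete (A := A)
  let m := IsLocalRing.maximalIdeal A
  obtain ⟨ι, _, C, _, _, σ, hloc, hfin, hσ⟩ := exists_components X
  refine Over.OverMorphism.ext ((cancel_epi σ.hom).mp (Sigma.hom_ext _ _ fun i => ?_))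
  haveI := hloc i
  haveI := hfin i
  let j := Sigma.ι (fun i => Spec (CommRingCat.of (C i))) i ≫ σ.hom
  have key : ∀ n, Spec.map (CommRingCat.ofHom (Ideal.Quotient.mk ((m ^ (n + 1)).map (algebraMap A (C i))))) ≫
      j ≫ a.left = Spec.map (CommRingCat.ofHom (Ideal.Quotient.mk ((m ^ (n + 1)).map (algebraMap A (C i))))) ≫
      j ≫ b.left := by
    intro n
    let q : Spec (CommRingCat.of (C i ⧸ (m ^ (n + 1)).map (algebraMap A (C i)))) ⟶
        pullback X.hom (Spec.map (CommRingCat.ofHom (Ideal.Quotient.mk (m ^ (n + 1))))) :=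
      pullback.lift (Spec.map (CommRingCat.ofHom (Ideal.Quotient.mk _)) ≫ j)
        (Spec.map (CommRingCat.ofHom (Ideal.Quotient.lift (m ^ (n + 1))
          ((Ideal.Quotient.mk ((m ^ (n + 1)).map (algebraMap A (C i)))).comp (algebraMap A (C i)))
          fun r hr => Ideal.Quotient.eq_zero_iff_mem.mpr (Ideal.mem_map_of_mem _ hr)))) (by
          rw [Category.assoc, show j ≫ X.hom = _ from (Category.assoc _ _ _).trans (hσ i), ← Spec.map_comp,
            ← Spec.map_comp]
          rfl)
    have := congrArg (q ≫ ·) (h n)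
    have e : q ≫ pullback.fst _ _ = _ := pullback.lift_fst _ _ _
    exact ((Category.assoc _ _ _).symm.trans ((congrArg (· ≫ a.left) e).trans (Category.assoc _ _ _))).symm.trans
      (this.trans ((Category.assoc _ _ _).symm.trans ((congrArg (· ≫ b.left) e).trans (Category.assoc _ _ _))))
  show Sigma.ι _ i ≫ σ.hom ≫ a.left = Sigma.ι _ i ≫ σ.hom ≫ b.left
  rw [← Category.assoc, ← Category.assoc (Sigma.ι _ i)]
  let mC : Ideal (C i) := (m ^ (0 + 1)).map (algebraMap A (C i))
  have hmC : mC ≠ ⊤ := by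
    simpa [mC] using map_maximalIdeal_ne_top (C i)
  haveI : Nontrivial (C i ⧸ mC) := Ideal.Quotient.nontrivial_iff.mpr hmC
  haveI : IsLocalRing (C i ⧸ mC) := .of_surjective' _ Ideal.Quotient.mk_surjective
  have hpt : (j ≫ a.left) (IsLocalRing.closedPoint (C i)) = (j ≫ b.left) (IsLocalRing.closedPoint (C i)) := by
    have h0 := congrArg (fun k => k (IsLocalRing.closedPoint (C i ⧸ mC))) (key 0)
    have he : Spec.map (CommRingCat.ofHom (Ideal.Quotient.mk mC)) (IsLocalRing.closedPoint (C i ⧸ mC)) =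
        IsLocalRing.closedPoint (C i) := by
      haveI : IsLocalHom (Ideal.Quotient.mk mC) := .of_surjective _ Ideal.Quotient.mk_surjective
      exact IsLocalRing.comap_closedPoint _
    simp only [Scheme.Hom.comp_apply] at h0 ⊢
    rw [← he]
    exact h0
  obtain ⟨U, hU, haU, -⟩ := exists_isAffineOpen_mem_and_subset
    (show (j ≫ a.left) (IsLocalRing.closedPoint (C i)) ∈ (⊤ : Y.left.Opens) from trivial)
  obtain ⟨ψa, ha⟩ := exists_factor _ hU haU
  obtain ⟨ψb, hb⟩ := exists_factor (j ≫ b.left) hU (hpt ▸ haU)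
  rw [← ha, ← hb]
  suffices hψ : ψa = ψb by rw [hψ]
  refine RingHom.ext fun z => sub_eq_zero.mp (IsHausdorff.haus' (I := m) _ fun n => ?_)
  cases n with
  | zero => rw [pow_zero, Ideal.one_eq_top, Submodule.top_smul]; exact SModEq.top
  | succ n =>
    have h1 := key n
    rw [← ha, ← hb, ← Category.assoc, ← Category.assoc, cancel_mono, ← Spec.map_comp, ← Spec.map_comp] at h1
    have h2 := RingHom.congr_fun (congrArg CommRingCat.Hom.hom (Spec.map_injective h1)) z
    rw [SModEq.zero, Ideal.smul_top_eq_map, Submodule.restrictScalars_mem]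
    exact Ideal.Quotient.eq.mp h2

end Groth.Agent.CompletePts
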